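import Cfsg.Agent.H419.EP.Targets
import Cfsg.Agent.S5662

/-!
# S3499: assembly of the symplectic non-residual case

The rows `SpC1ts`, `SpC1nd`, `SpC2`, `SpC2ts`, `SpC3`, `SpC3U`, `SpC4`, `SpC5`, `SpC6`, `SpC7`, `SpC8` (one for each
disjunct of `Geo.InSymplecticClass`; the subgroup `m.hat A` lies in the member of the class), and
`pspNonRes_of : rows → PspNonRes`.
-/

set_option autoImplicit false

namespace Cfsg.Agent.H111.EP

open Subgroup Cfsg.Agent.H284 Cfsg.Agent.H419.EP Cfsg.Geo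
open scoped MatrixGroups

/-- C1, totally isotropic subspace -/
def SpC1ts : Prop := ∀ {Q : Type} [Group Q] [Finite Q], IsSimpleGroup Q → ∀ {A : Subgroup Q}
    {Γ : Subgroup (MulAut Q)}, EPT A Γ → ∀ {F : Type} [Field F] [Fintype F] {k : ℕ}
    (m : Model Q (Cfsg.spGL k F)), 2 ≤ k → 3 ≤ Fintype.card F → ∀ W : Submodule F (Fin k ⊕ Fin k → F), W ≠ ⊥ →
    IsTotallySingularFor (Cfsg.sympForm k F) W → m.hat A ≤ subspaceStabilizer W → False

/-- C1, nondegenerate subspace -/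
def SpC1nd : Prop := ∀ {Q : Type} [Group Q] [Finite Q], IsSimpleGroup Q → ∀ {A : Subgroup Q}
    {Γ : Subgroup (MulAut Q)}, EPT A Γ → ∀ {F : Type} [Field F] [Fintype F] {k : ℕ}
    (m : Model Q (Cfsg.spGL k F)), 2 ≤ k → 3 ≤ Fintype.card F → ∀ W : Submodule F (Fin k ⊕ Fin k → F), W ≠ ⊥ →
    IsNondegenerateOn (Cfsg.sympForm k F) W → Module.finrank F W < k → m.hat A ≤ subspaceStabilizer W → False

/-- C2, nondegenerate decomposition -/
def SpC2 : Prop := ∀ {Q : Type} [Group Q] [Finite Q], IsSimpleGroup Q → ∀ {A : Subgroup Q}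
    {Γ : Subgroup (MulAut Q)}, EPT A Γ → ∀ {F : Type} [Field F] [Fintype F] {k : ℕ}
    (m : Model Q (Cfsg.spGL k F)), 2 ≤ k → 3 ≤ Fintype.card F → ∀ (t d : ℕ)
    (D : Fin t → Submodule F (Fin k ⊕ Fin k → F)), IsNondegenerateMDecomposition (Cfsg.sympForm k F) d D →
    m.hat A ≤ decompositionStabilizer D → False

/-- C2, two totally isotropic subspaces -/
def SpC2ts : Prop := ∀ {Q : Type} [Group Q] [Finite Q], IsSimpleGroup Q → ∀ {A : Subgroup Q}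
    {Γ : Subgroup (MulAut Q)}, EPT A Γ → ∀ {F : Type} [Field F] [Fintype F] {k : ℕ}
    (m : Model Q (Cfsg.spGL k F)), 2 ≤ k → 3 ≤ Fintype.card F → Odd (Fintype.card F) →
    ∀ D : Fin 2 → Submodule F (Fin k ⊕ Fin k → F), IsMDecomposition k D →
    (∀ i, IsTotallySingularFor (Cfsg.sympForm k F) (D i)) → m.hat A ≤ decompositionStabilizer D → False

/-- C3, symplectic over an extension field -/
def SpC3 : Prop := ∀ {Q : Type} [Group Q] [Finite Q], IsSimpleGroup Q → ∀ {A : Subgroup Q}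
    {Γ : Subgroup (MulAut Q)}, EPT A Γ → ∀ {F : Type} [Field F] [Fintype F] {k : ℕ}
    (m : Model Q (Cfsg.spGL k F)), 2 ≤ k → 3 ≤ Fintype.card F → ∀ (r : ℕ)
    (K : Subalgebra F (Matrix (Fin k ⊕ Fin k) (Fin k ⊕ Fin k) F)), r.Prime → IsFieldSubalgebra r K →
    IsSelfAdjointFor (Cfsg.sympForm k F) K → (∀ a ∈ K, ∀ v, Cfsg.sympForm k F (a.mulVec v) v = 0) →
    m.hat A ≤ subalgebraNormalizer K → False

/-- C3, unitary over the quadratic extension field -/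
def SpC3U : Prop := ∀ {Q : Type} [Group Q] [Finite Q], IsSimpleGroup Q → ∀ {A : Subgroup Q}
    {Γ : Subgroup (MulAut Q)}, EPT A Γ → ∀ {F : Type} [Field F] [Fintype F] {k : ℕ}
    (m : Model Q (Cfsg.spGL k F)), 2 ≤ k → 3 ≤ Fintype.card F → Odd (Fintype.card F) →
    ∀ K : Subalgebra F (Matrix (Fin k ⊕ Fin k) (Fin k ⊕ Fin k) F), IsFieldSubalgebra 2 K →
    IsAdjointClosedFor (Cfsg.sympForm k F) K → ¬ IsSelfAdjointFor (Cfsg.sympForm k F) K →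
    m.hat A ≤ subalgebraNormalizer K → False

/-- C4 -/
def SpC4 : Prop := ∀ {Q : Type} [Group Q] [Finite Q], IsSimpleGroup Q → ∀ {A : Subgroup Q}
    {Γ : Subgroup (MulAut Q)}, EPT A Γ → ∀ {F : Type} [Field F] [Fintype F] {k : ℕ}
    (m : Model Q (Cfsg.spGL k F)), 2 ≤ k → 3 ≤ Fintype.card F → Odd (Fintype.card F) →
    ∀ (n₁ n₂ : ℕ) (e : (Fin k ⊕ Fin k) ≃ Fin n₁ × Fin n₂) (P : GL (Fin k ⊕ Fin k) F)
      (f₁ : (Fin n₁ → F) → (Fin n₁ → F) → F) (f₂ : (Fin n₂ → F) → (Fin n₂ → F) → F), 3 ≤ n₂ →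
      IsSymplecticForm f₁ → IsSymmetricForm f₂ → IsTensorFormStructure id (Cfsg.sympForm k F) f₁ f₂ e P →
      m.hat A ≤ tensorProductSubgroup n₁ n₂ e P → False

/-- C5 -/
def SpC5 : Prop := ∀ {Q : Type} [Group Q] [Finite Q], IsSimpleGroup Q → ∀ {A : Subgroup Q}
    {Γ : Subgroup (MulAut Q)}, EPT A Γ → ∀ {F : Type} [Field F] [Fintype F] {k : ℕ}
    (m : Model Q (Cfsg.spGL k F)), 2 ≤ k → 3 ≤ Fintype.card F → ∀ (F₀ : Subfield F) (r : ℕ)
    (P : GL (Fin k ⊕ Fin k) F) (ζ : F), r.Prime → Fintype.card F = Nat.card F₀ ^ r → ζ ≠ 0 →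
    IsFormRationalStructure (Cfsg.sympForm k F) F₀ ζ P → m.hat A ≤ subfieldSubgroup F₀ P → False

/-- C6 -/
def SpC6 : Prop := ∀ {Q : Type} [Group Q] [Finite Q], IsSimpleGroup Q → ∀ {A : Subgroup Q}
    {Γ : Subgroup (MulAut Q)}, EPT A Γ → ∀ {F : Type} [Field F] [Fintype F] {k : ℕ}
    (m : Model Q (Cfsg.spGL k F)), 2 ≤ k → 3 ≤ Fintype.card F → ∀ (R : Subgroup (GL (Fin k ⊕ Fin k) F)) (p d : ℕ),
    IsSymplecticTypeGroup 2 R → ActsAbsolutelyIrreducibly (matrixSet R) → R ≤ similarityGroup (Cfsg.sympForm k F) →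
    p.Prime → Odd p → Fintype.card F = p → Nat.card R = 2 ^ (1 + 2 * d) → Nat.card (Subgroup.center R) = 2 →
    IsOfMinusType d R → m.hat A ≤ subgroupNormalizer R → False

/-- C7 -/
def SpC7 : Prop := ∀ {Q : Type} [Group Q] [Finite Q], IsSimpleGroup Q → ∀ {A : Subgroup Q}
    {Γ : Subgroup (MulAut Q)}, EPT A Γ → ∀ {F : Type} [Field F] [Fintype F] {k : ℕ}
    (m : Model Q (Cfsg.spGL k F)), 2 ≤ k → 3 ≤ Fintype.card F → Odd (Fintype.card F) →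
    ∀ (d t : ℕ) (e : (Fin k ⊕ Fin k) ≃ (Fin t → Fin d)) (P : GL (Fin k ⊕ Fin k) F)
      (f₁ : (Fin d → F) → (Fin d → F) → F), Odd t → 3 ≤ t → ¬ (Fintype.card F = 3 ∧ d = 2) →
      IsSymplecticForm f₁ → IsTensorPowerFormStructure id (Cfsg.sympForm k F) f₁ e P →
      m.hat A ≤ tensorWreathSubgroup d t e P → False

/-- C8 -/
def SpC8 : Prop := ∀ {Q : Type} [Group Q] [Finite Q], IsSimpleGroup Q → ∀ {A : Subgroup Q}
    {Γ : Subgroup (MulAut Q)}, EPT A Γ → ∀ {F : Type} [Field F] [Fintype F] {k : ℕ}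
    (m : Model Q (Cfsg.spGL k F)), 2 ≤ k → 3 ≤ Fintype.card F → ¬ Odd (Fintype.card F) →
    ∀ Qf : (Fin k ⊕ Fin k → F) → F, IsNondegenerateQuadraticForm Qf →
    (∀ u v, QuadraticMap.polar Qf u v = Cfsg.sympForm k F u v) → m.hat A ≤ quadSimilarityGroup Qf → False

/-- **Assembly of the symplectic non-residual case.** -/
theorem pspNonRes_of (c1ts : SpC1ts) (c1nd : SpC1nd) (c2 : SpC2) (c2ts : SpC2ts) (c3 : SpC3) (c3u : SpC3U)
    (c4 : SpC4) (c5 : SpC5) (c6 : SpC6) (c7 : SpC7) (c8 : SpC8) : PspNonRes := by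
  intro Q _ _ hs A Γ h F _ _ k m hk hq hres
  rcases Cfsg.Agent.S5662.result k hk (by rintro ⟨-, h2⟩; omega) (m.hat A) (m.hat_le A) (m.sup_ne h.max) with h1 | h1
  swap
  · exact hres h1
  obtain ⟨M, hM, hAM⟩ := h1
  rcases hM with hM | ⟨r, K, hr, hK, hsa, hkv, rfl⟩ | ⟨K, hodd, hK, hac, hsa, rfl⟩ |
    ⟨n₁, n₂, e, P, f₁, f₂, hodd, hn, hf₁, hf₂, hst, rfl⟩ | ⟨d, t, e, P, f₁, hodd, ht, ht3, h3, hf₁, hst, rfl⟩
  · rcases hM with ⟨W, hW, hts, rfl⟩ | ⟨W, hW, hnd, hlt, rfl⟩ | ⟨t, d, D, hD, rfl⟩ | ⟨D, hodd, hD, hts, rfl⟩ |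
      ⟨F₀, r, P, ζ, hr, hcard, hζ, hrat, rfl⟩ |
      ⟨R, p, d, hR, habs, hsim, hp, hpo, hcard, hcR, hcZ, hmin, rfl⟩ | ⟨Qf, hodd, hQf, hpol, rfl⟩
    · exact c1ts hs h m hk hq W hW hts (hAM.trans inf_le_left)
    · exact c1nd hs h m hk hq W hW hnd hlt (hAM.trans inf_le_left)
    · exact c2 hs h m hk hq t d D hD (hAM.trans inf_le_left)
    · exact c2ts hs h m hk hq hodd D hD hts (hAM.trans inf_le_left)
    · exact c5 hs h m hk hq F₀ r P ζ hr hcard hζ hrat (hAM.trans inf_le_left)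
    · exact c6 hs h m hk hq R p d hR habs hsim hp hpo hcard hcR hcZ hmin (hAM.trans inf_le_left)
    · exact c8 hs h m hk hq hodd Qf hQf hpol (hAM.trans inf_le_left)
  · exact c3 hs h m hk hq r K hr hK hsa hkv (hAM.trans inf_le_left)
  · exact c3u hs h m hk hq hodd K hK hac hsa (hAM.trans inf_le_left)
  · exact c4 hs h m hk hq hodd n₁ n₂ e P f₁ f₂ hn hf₁ hf₂ hst (hAM.trans inf_le_left)
  · exact c7 hs h m hk hq hodd d t e P f₁ ht ht3 h3 hf₁ hst (hAM.trans inf_le_left)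

end Cfsg.Agent.H111.EP
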