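import Cfsg.Agent.H111.EP.SpAsm
import Cfsg.Agent.H523.EP.SpC1Row
import Cfsg.Agent.H681.EP.SpC3U
import Cfsg.Agent.H491.EP.SpC6
import Cfsg.Agent.H447.EP.SpPair
import Cfsg.Agent.H821.EP.SpC3
import Cfsg.Agent.H663.EP.SpC4
import Cfsg.Agent.H463.EP.SpFive
import Cfsg.Agent.H269.EPC.SpC2
import Cfsg.Agent.H663.EP.C7Main
import Cfsg.Agent.H673.EP.SpC8

/-!
# S3499: the symplectic non-residual case, rows landed so far
-/

set_option autoImplicit false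

namespace Cfsg.Agent.H111.EP

open Subgroup Cfsg.Agent.H284 Cfsg.Agent.H419.EP Cfsg.Geo

theorem spC2 : SpC2 := fun hs _ _ h _ _ _ _ m hk hq _ _ _ hD hA =>
  Cfsg.Agent.H269.EPC.row_sp_c2 hs h m hk hq hD (le_inf hA (m.hat_le _))

theorem spC3U : SpC3U := fun _ _ _ h _ _ _ _ m hk _ hodd K hK hac hsa hA =>
  Cfsg.Agent.H681.EP.spC3U h hk m hodd K hK hac hsa (le_inf hA (m.hat_le _))

theorem spC6 : SpC6 := fun _ _ _ h _ _ _ _ m hk _ _ _ _ hR habs hsim _ hpo hcard hcR hcZ _ hA =>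
  Cfsg.Agent.H491.EP.sp_c6 h hk m hR habs hsim hpo hcard hcR hcZ (le_inf hA (m.hat_le _))

theorem spC8 : SpC8 := fun _ _ _ h _ _ _ _ m hk hq hodd _ h1 h2 hA =>
  Cfsg.Agent.H673.EP.spC8 h m hk hq hodd h1 h2 (le_inf hA (m.hat_le _))

/-- **the symplectic non-residual case** -/
theorem pspNonRes : PspNonRes :=
  pspNonRes_of H523.EP.spC1ts H523.EP.spC1nd spC2 H447.EP.spC2ts H821.EP.spC3 spC3U
    H663.EP.spC4 H463.EP.spC5 spC6 H663.EP.spC7 spC8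

end Cfsg.Agent.H111.EP
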